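import Groth.Agent.GammaLib.FlatGamma
import Groth.Prelude.Def_PolLaw2
import Mathlib.RingTheory.Norm.Basic
import Mathlib.LinearAlgebra.TensorProduct.Basic
import Mathlib.Data.Finset.Powerset

/-! Polarization and the linearised norm. -/

set_option autoImplicit false
set_option linter.style.haveILetI false
universe u
open scoped TensorProduct

namespace Groth.Agent.SymPol

variable {A : Type u} [CommRing A] {B : Type u} [CommRing B] [Algebra A B] {d : ℕ}

theorem sum_perm_tprod_mem (v : Fin d → B) :
    ∑ σ : Equiv.Perm (Fin d), PiTensorProduct.reindex A (fun _ : Fin d => B) σ (PiTensorProduct.tprod A v) ∈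
      Submodule.span A (Set.range fun b : B => PiTensorProduct.tprod A fun _ : Fin d => b) := by
  classical
  let t : (Fin d → Fin d) → (⨂[A] _ : Fin d, B) := fun r => PiTensorProduct.tprod A fun a => v (r a)
  let ε : Finset (Fin d) → A := fun S => (-1) ^ (Sᶜ).card
  have key : ∀ r : Fin d → Fin d, (∑ S : Finset (Fin d), if ∀ a, r a ∈ S then ε S else 0) =
      if Function.Surjective r then 1 else 0 := by
    intro r
    rw [← Finset.sum_filter,
      Finset.sum_bij' (t := ((Finset.univ.image r)ᶜ).powerset) (g := fun T => (-1 : A) ^ T.card)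
        (fun S _ => Sᶜ) (fun T _ => Tᶜ)]
    · have h1 : (∑ T ∈ ((Finset.univ.image r)ᶜ).powerset, (-1 : A) ^ T.card) =
          ((∑ T ∈ ((Finset.univ.image r)ᶜ).powerset, (-1 : ℤ) ^ T.card : ℤ) : A) := by push_cast; rfl
      have hiff : (Finset.univ.image r)ᶜ = ∅ ↔ Function.Surjective r := by
        rw [Finset.compl_eq_empty_iff, Finset.eq_univ_iff_forall]
        simp [Function.Surjective]
      rw [h1, Finset.sum_powerset_neg_one_pow_card, if_congr hiff rfl rfl]
      split_ifs <;> simp
    all_goals intros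
    all_goals simp_all [ε, Finset.subset_iff]
    all_goals grind
  have h : ∑ S : Finset (Fin d), ε S • PiTensorProduct.tprod A (fun _ : Fin d => ∑ i ∈ S, v i) =
      ∑ σ : Equiv.Perm (Fin d), PiTensorProduct.reindex A (fun _ : Fin d => B) σ (PiTensorProduct.tprod A v) := by
    simp only [MultilinearMap.map_sum_finset, Finset.smul_sum]
    calc ∑ S : Finset (Fin d), ∑ r ∈ Fintype.piFinset (fun _ : Fin d => S), ε S • t r
        = ∑ S : Finset (Fin d), ∑ r : Fin d → Fin d, (if ∀ a, r a ∈ S then ε S else 0) • t r := by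
          refine Finset.sum_congr rfl fun S _ => ?_
          rw [← Finset.sum_subset (Finset.subset_univ (Fintype.piFinset fun _ : Fin d => S))]
          · exact Finset.sum_congr rfl fun r hr => by rw [if_pos (Fintype.mem_piFinset.1 hr)]
          · intro r _ hr
            rw [if_neg fun h => hr (Fintype.mem_piFinset.2 h), zero_smul]
      _ = ∑ r : Fin d → Fin d, (if Function.Surjective r then t r else 0) := by
          rw [Finset.sum_comm]
          refine Finset.sum_congr rfl fun r _ => ?_
          rw [← Finset.sum_smul, key]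
          split_ifs <;> simp
      _ = _ := by
          rw [← Finset.sum_filter]
          refine (Finset.sum_bij' (fun (σ : Equiv.Perm (Fin d)) _ => (⇑σ.symm : Fin d → Fin d))
            (fun r hr => (Equiv.ofBijective r
              (Finite.surjective_iff_bijective.1 (Finset.mem_filter.1 hr).2)).symm)
            (fun σ _ => Finset.mem_filter.2 ⟨Finset.mem_univ _, σ.symm.surjective⟩)
            (fun r _ => Finset.mem_univ _) (fun σ _ => ?_) (fun r _ => ?_) (fun σ _ => ?_)).symm
          · ext a; simp [Equiv.symm_apply_eq, Equiv.eq_symm_apply]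
          · ext a; simp
          · rw [PiTensorProduct.reindex_tprod]
  rw [← h]
  exact Submodule.sum_mem _ fun S _ => Submodule.smul_mem _ _ (Submodule.subset_span ⟨_, rfl⟩)

theorem sum_perm_mem (z : ⨂[A] _ : Fin d, B) :
    ∑ σ : Equiv.Perm (Fin d), PiTensorProduct.reindex A (fun _ : Fin d => B) σ z ∈
      Submodule.span A (Set.range fun b : B => PiTensorProduct.tprod A fun _ : Fin d => b) := by
  induction z using PiTensorProduct.induction_on with
  | smul_tprod r v =>
    simp only [map_smul, ← Finset.smul_sum]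
    exact Submodule.smul_mem _ _ (sum_perm_tprod_mem v)
  | add x y hx hy => simp only [map_add, Finset.sum_add_distrib]; exact add_mem hx hy

theorem algHom_ext_tpow {D : Type u} [CommRing D] [Algebra A D] (h : IsUnit ((d.factorial : ℕ) : A))
    {f g : SymTen.TS A B d →ₐ[A] D} (hfg : ∀ b, f (SymTen.tpow A B d b) = g (SymTen.tpow A B d b)) : f = g := by
  refine AlgHom.ext fun z => ?_
  obtain ⟨w, hw⟩ := h
  let W : Submodule A (SymTen.TS A B d) := LinearMap.eqLocus f.toLinearMap g.toLinearMap
  have hle : Submodule.span A (Set.range fun b : B => PiTensorProduct.tprod A fun _ : Fin d => b) ≤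
      W.map (SymTen.TS A B d).val.toLinearMap := by
    rw [Submodule.span_le]
    rintro _ ⟨b, rfl⟩
    exact ⟨SymTen.tpow A B d b, hfg b, rfl⟩
  obtain ⟨y, hy, hye⟩ := hle (sum_perm_mem (A := A) z.1)
  have hsum : ∑ σ : Equiv.Perm (Fin d), PiTensorProduct.reindex A (fun _ : Fin d => B) σ z.1 =
      (w : A) • z.1 := by
    rw [Finset.sum_congr rfl fun σ _ => z.2 σ, Finset.sum_const, Finset.card_univ, Fintype.card_perm,
      Fintype.card_fin, hw, Nat.cast_smul_eq_nsmul]
  have hz : y = (w : A) • z := Subtype.ext (hye.trans hsum)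
  have : (w : A) • f z = (w : A) • g z := by
    rw [← map_smul, ← map_smul, ← hz]
    exact hy
  simpa [smul_smul] using congrArg (fun v => (↑w⁻¹ : A) • v) this

theorem existsUnique_norm [Module.Free A B] [Module.Finite A B] (hd : Module.finrank A B = d)
    (h : IsUnit ((d.factorial : ℕ) : A)) :
    ∃! φ : SymTen.TS A B d →ₐ[A] A, ∀ r : B, φ (SymTen.tpow A B d r) = Algebra.norm A r := by
  obtain ⟨τ, hτv, hτ⟩ := GammaLib.exists_tLaw_of_flat_or_isUnit (A := A) (B := B) (d := d) (Or.inr h)
  obtain ⟨φ, hφ, -⟩ := hτ A (PolLaw.normLaw A B d hd)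
  have hφn : ∀ r : B, φ (SymTen.tpow A B d r) = Algebra.norm A r := by
    intro r
    have e1 : τ.law.toFun' A ((1 : A) ⊗ₜ[A] r) = (1 : A) ⊗ₜ[A] SymTen.tpow A B d r := by
      rw [GammaLib.ground_apply_map]
      congr 1
      have e2 := congrArg (fun L : PolLaw.MulLaw A B (⨂[A] _ : Fin d, B) d =>
        L.law.toFun' A ((1 : A) ⊗ₜ[A] r)) hτv
      have e3 : (SymTen.tpowLaw A B d).law.toFun' A ((1 : A) ⊗ₜ[A] r) =
          (1 : A) ⊗ₜ[A] (PiTensorProduct.tprod A fun _ : Fin d => r) := by
        have := GammaLib.tpow_sum_raw (A := A) (B := B) (d := d) (S := A) (fun _ : Fin 1 => (1 : A)) (fun _ => r)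
        simpa using this
      apply Subtype.ext
      have e4 : (SymTen.TS A B d).val.toLinearMap.lTensor A (τ.law.toFun' A ((1 : A) ⊗ₜ[A] r)) =
          (1 : A) ⊗ₜ[A] (PiTensorProduct.tprod A fun _ : Fin d => r) := e2.trans e3
      rw [GammaLib.ground_apply_map, LinearMap.lTensor_tmul] at e4
      have e6 := congrArg (TensorProduct.lid A _) e4
      simp at e6
      exact e6
    have e : φ.toLinearMap.lTensor A (τ.law.toFun' A ((1 : A) ⊗ₜ[A] r)) =
        (PolLaw.normLaw A B d hd).law.toFun' A ((1 : A) ⊗ₜ[A] r) :=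
      congrArg (fun L : B →ₚₗ[A] A => L.toFun' A ((1 : A) ⊗ₜ[A] r)) hφ
    rw [e1, LinearMap.lTensor_tmul, PolLaw.normLaw_apply] at e
    have e5 : Algebra.norm A ((1 : A) ⊗ₜ[A] r) = Algebra.norm A r := by
      rw [← Algebra.norm_eq_of_algEquiv (Algebra.TensorProduct.lid A B) ((1 : A) ⊗ₜ[A] r),
        Algebra.TensorProduct.lid_tmul, one_smul]
    rw [e5] at e
    simpa using congrArg (TensorProduct.lid A A) e
  exact ⟨φ, hφn, fun g hg => algHom_ext_tpow h fun b => (hg b).trans (hφn b).symm⟩

end Groth.Agent.SymPol
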